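/- Kernel checks of the type B2 table (generated). -/
import Cfsg.Prelude.Def_ChevB2
import Cfsg.Agent.Lib.Chev.Ok
import Cfsg.Agent.Lib.Chev.Data.B2

set_option autoImplicit false

namespace Cfsg.Agent.Chev.B2

theorem ck_negIdx : (Cfsg.Lie.chevB2).negIdx.toList = pk.allRoots.map pk.ng := by decide +kernel

theorem ck_simpleIdx : (Cfsg.Lie.chevB2).simpleIdx.toList = (List.range pk.rank).map pk.sim := by decide +kernel

theorem ck_coroot : (Cfsg.Lie.chevB2).coroot.toList.map Array.toList = pk.allRoots.map fun r => (List.range pk.rank).map fun i => pk.co r i := by decide +kernel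

theorem ck_cartan : (Cfsg.Lie.chevB2).cartanSR.toList.map Array.toList = (List.range pk.rank).map fun i => pk.allRoots.map fun r => pk.A i r := by decide +kernel

theorem ck_chain : ((Cfsg.Lie.chevB2).chain.toList.map fun a => a.toList.map fun e => (e.1, e.2.toList)) = pk.allRoots.map fun r => (pk.keys r).map fun s => (s, pk.entry r s) := by decide +kernel

theorem ck_keys : pk.ckKeys = true := by decide +kernel

theorem ck_range : pk.ckRange = true := by decide +kernel

theorem ck_basic : pk.ckBasic = true := by decide +kernel

theorem ck_roots : pk.ckRoots = true := by decide +kernel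

theorem ck_cartanM : pk.ckCartan cdet cinv = true := by decide +kernel

theorem ck_order : pk.ckOrder = true := by decide +kernel

theorem ck_pow : pk.ckPow = true := by decide +kernel

theorem ck_down : pk.ckDown = true := by decide +kernel

theorem ck_up : pk.ckUp tops = true := by decide +kernel

theorem ck_der6 : pk.ckDer 6 = true := by decide +kernel

theorem ck_der7 : pk.ckDer 7 = true := by decide +kernel

theorem ck_n0 : pk.ckN 0 = true := by decide +kernel

theorem ck_w0 : pk.ckW 0 = true := by decide +kernel

theorem ck_sig0 : pk.ckSig 0 = true := by decide +kernel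

theorem ck_n1 : pk.ckN 1 = true := by decide +kernel

theorem ck_w1 : pk.ckW 1 = true := by decide +kernel

theorem ck_sig1 : pk.ckSig 1 = true := by decide +kernel

end Cfsg.Agent.Chev.B2
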