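/- Kernel checks of the type E7 table (generated). -/
import Cfsg.Prelude.Def_ChevE7
import Cfsg.Agent.Lib.Chev.Ok
import Cfsg.Agent.Lib.Chev.Data.E7

set_option autoImplicit false

namespace Cfsg.Agent.Chev.E7

theorem ck_n0 : pk.ckN 0 = true := by decide +kernel

theorem ck_w0 : pk.ckW 0 = true := by decide +kernel

theorem ck_sig0 : pk.ckSig 0 = true := by decide +kernel

theorem ck_n1 : pk.ckN 1 = true := by decide +kernel

theorem ck_w1 : pk.ckW 1 = true := by decide +kernel

theorem ck_sig1 : pk.ckSig 1 = true := by decide +kernel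

theorem ck_n2 : pk.ckN 2 = true := by decide +kernel

theorem ck_w2 : pk.ckW 2 = true := by decide +kernel

theorem ck_sig2 : pk.ckSig 2 = true := by decide +kernel

end Cfsg.Agent.Chev.E7
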