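/- Kernel checks of the type E7 table (generated). -/
import Cfsg.Prelude.Def_ChevE7
import Cfsg.Agent.Lib.Chev.Ok
import Cfsg.Agent.Lib.Chev.Data.E7

set_option autoImplicit false

namespace Cfsg.Agent.Chev.E7

theorem ck_n6 : pk.ckN 6 = true := by decide +kernel

theorem ck_w6 : pk.ckW 6 = true := by decide +kernel

theorem ck_sig6 : pk.ckSig 6 = true := by decide +kernel

end Cfsg.Agent.Chev.E7
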