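/- Kernel checks of the type E8 table (generated). -/
import Cfsg.Prelude.Def_ChevE8
import Cfsg.Agent.Lib.Chev.Ok
import Cfsg.Agent.Lib.Chev.Data.E8

set_option autoImplicit false

namespace Cfsg.Agent.Chev.E8

theorem ck_order : pk.ckOrder = true := by decide +kernel

theorem ck_pow : pk.ckPow = true := by decide +kernel

theorem ck_down : pk.ckDown = true := by decide +kernel

theorem ck_up : pk.ckUp tops = true := by decide +kernel

theorem ck_der239 : pk.ckDer 239 = true := by decide +kernel

end Cfsg.Agent.Chev.E8
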