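/- Kernel checks of the type E8 table (generated). -/
import Cfsg.Prelude.Def_ChevE8
import Cfsg.Agent.Lib.Chev.Ok
import Cfsg.Agent.Lib.Chev.Data.E8

set_option autoImplicit false

namespace Cfsg.Agent.Chev.E8

theorem ck_n4 : pk.ckN 4 = true := by decide +kernel

theorem ck_w4 : pk.ckW 4 = true := by decide +kernel

theorem ck_sig4 : pk.ckSig 4 = true := by decide +kernel

theorem ck_n5 : pk.ckN 5 = true := by decide +kernel

theorem ck_w5 : pk.ckW 5 = true := by decide +kernel

theorem ck_sig5 : pk.ckSig 5 = true := by decide +kernel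

theorem ck_n6 : pk.ckN 6 = true := by decide +kernel

theorem ck_w6 : pk.ckW 6 = true := by decide +kernel

theorem ck_sig6 : pk.ckSig 6 = true := by decide +kernel

theorem ck_n7 : pk.ckN 7 = true := by decide +kernel

theorem ck_w7 : pk.ckW 7 = true := by decide +kernel

theorem ck_sig7 : pk.ckSig 7 = true := by decide +kernel

end Cfsg.Agent.Chev.E8
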