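/- Kernel checks of the type F4 table (generated). -/
import Cfsg.Prelude.Def_ChevF4
import Cfsg.Agent.Lib.Chev.Ok
import Cfsg.Agent.Lib.Chev.Data.F4
import Cfsg.Agent.Lib.Chev.Check.F4a

set_option autoImplicit false

namespace Cfsg.Agent.Chev.F4

/-- The datum of type F4 passes all checks. -/
theorem ok : Ok (Cfsg.Lie.chevF4) pk where
  rank := rfl
  nroots := rfl
  negIdx := ck_negIdx
  simpleIdx := ck_simpleIdx
  coroot := ck_coroot
  cartan := ck_cartan
  chain := ck_chain
  keys := ck_keys
  range := ck_range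
  basic := ck_basic
  roots := ck_roots
  cartanM := ⟨_, _, ck_cartanM⟩
  order := ck_order
  pow := ck_pow
  nmat := fun i h => match i, h with
    | 0, _ => ck_n0
    | 1, _ => ck_n1
    | 2, _ => ck_n2
    | 3, _ => ck_n3
    | _ + 4, h => absurd h (by show ¬ _ < 4; omega)
  wrefl := fun i h => match i, h with
    | 0, _ => ck_w0
    | 1, _ => ck_w1
    | 2, _ => ck_w2
    | 3, _ => ck_w3
    | _ + 4, h => absurd h (by show ¬ _ < 4; omega)
  sig := fun i h => match i, h with
    | 0, _ => ck_sig0
    | 1, _ => ck_sig1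
    | 2, _ => ck_sig2
    | 3, _ => ck_sig3
    | _ + 4, h => absurd h (by show ¬ _ < 4; omega)
  down := ck_down
  tops := ⟨tops, ck_up, by
    intro g hg
    simp only [tops, List.mem_cons, List.not_mem_nil, or_false] at hg
    rcases hg with rfl | rfl
    · exact ck_der44
    · exact ck_der47⟩

end Cfsg.Agent.Chev.F4
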